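import Mathlib
import Cfsg.Agent.Lib.Helper21.U3.Defs
import Cfsg.Agent.Lib.Helper47.Torus.Cyc
import Cfsg.Agent.Lib.Helper33.Torus.CoreInv
import Cfsg.Agent.Lib.Helper25.Torus.ConjRel

/-!
# Project U3ODD, package CORE3 (helper48)

The module bound from a product of three conjugates of `s`.
-/

set_option autoImplicit false

namespace Cfsg.Agent.Lib.Helper48.U3

open Cfsg.Agent.Lib.Helper21.U3

universe u

theorem pkgCore3 : PkgCore3.{u} := by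
  intro G _ _ p _ V H hV hHV hf s h₁ h₂ h₃ hs hh₁ hh₂ hh₃ r N hr hrp hdvd hN
  have hcH : h₁ * s * h₁⁻¹ * (h₂ * s * h₂⁻¹) * (h₃ * s * h₃⁻¹) ∈ H :=
    H.mul_mem (H.mul_mem (H.mul_mem (H.mul_mem hh₁ hs) (H.inv_mem hh₁))
      (H.mul_mem (H.mul_mem hh₂ hs) (H.inv_mem hh₂)))
      (H.mul_mem (H.mul_mem hh₃ hs) (H.inv_mem hh₃))
  obtain ⟨k, hk1, hrk, hk2, hk3⟩ := Cfsg.Agent.Lib.Helper47.Torus.pkgCyc p V H hV hHV hf _ hcH
    r 1 hr hrp le_rfl (by rw [pow_one]; exact hdvd)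
  rw [pow_one] at hrk
  have hNk : N ∣ k := hN k hk1 hrk
  have hNle : N ≤ k := Nat.le_of_dvd (by omega) hNk
  have hpow : p ^ N ≤ p ^ k := Nat.pow_le_pow_right (Nat.Prime.pos (Fact.out)) hNle
  refine ⟨?_, hpow.trans hk3⟩
  have hconj : ∀ h ∈ H, (V ⊓ Subgroup.centralizer ({h * s * h⁻¹} : Set G)).relIndex V =
      (V ⊓ Subgroup.centralizer ({s} : Set G)).relIndex V := fun h hh =>
    Cfsg.Agent.Lib.Helper25.Torus.pkgConjRel V h s (hHV hh)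
  have hprod := Cfsg.Agent.Lib.Helper33.Torus.relIndex_prod_le V
    ((V ⊓ Subgroup.centralizer ({s} : Set G)).relIndex V)
    [h₁ * s * h₁⁻¹, h₂ * s * h₂⁻¹, h₃ * s * h₃⁻¹] (by
      intro t ht
      simp only [List.mem_cons, List.not_mem_nil, or_false] at ht
      rcases ht with rfl | rfl | rfl
      · exact le_of_eq (hconj h₁ hh₁)
      · exact le_of_eq (hconj h₂ hh₂)
      · exact le_of_eq (hconj h₃ hh₃))
  have hL : [h₁ * s * h₁⁻¹, h₂ * s * h₂⁻¹, h₃ * s * h₃⁻¹].prod =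
      h₁ * s * h₁⁻¹ * (h₂ * s * h₂⁻¹) * (h₃ * s * h₃⁻¹) := by
    simp [mul_assoc]
  rw [hL] at hprod
  exact hpow.trans (hk2.trans hprod)

end Cfsg.Agent.Lib.Helper48.U3
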